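import Groth.Agent.LocalCrit.Flatness
import Mathlib.RingTheory.Flat.Localization
import Mathlib.RingTheory.Localization.BaseChange
import Mathlib.RingTheory.Ideal.Operations
import Mathlib.RingTheory.AdicCompletion.Basic
import Mathlib.RingTheory.Filtration

/-!
Flatness from a chain of ideals with regular steps, and local flatness at finitely many primes.
-/

set_option autoImplicit false
set_option linter.style.haveILetI false
universe u

open TensorProduct Groth.Agent.LocalCrit

namespace Groth.Agent.H1FlatA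

variable {A : Type u} [CommRing A] {M : Type u} [AddCommGroup M] [Module A M]
variable {ι : Type*} (p : ι → Ideal A) [∀ i, (p i).IsPrime]

theorem exists_smul_eq_zero (q : Ideal A) [q.IsPrime]
    (hq : Module.Flat (Localization.AtPrime q) (LocalizedModule q.primeCompl M))
    {Q P : Type u} [AddCommGroup Q] [Module A Q] [AddCommGroup P] [Module A P]
    (φ : Q →ₗ[A] P) (hφ : Function.Injective φ) (x : Q ⊗[A] M) (hx : φ.rTensor M x = 0) :
    ∃ s : A, s ∉ q ∧ s • x = 0 := by
  haveI : Module.Flat A (LocalizedModule q.primeCompl M) :=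
    (Module.flat_iff_of_isLocalization (Localization.AtPrime q) q.primeCompl (LocalizedModule q.primeCompl M)).1 hq
  let ℓ := LocalizedModule.mkLinearMap q.primeCompl M
  have h0 : ℓ.lTensor Q x = 0 := by
    apply Module.Flat.rTensor_preserves_injective_linearMap φ hφ
    rw [map_zero, ← LinearMap.comp_apply, LinearMap.rTensor_comp_lTensor, ← LinearMap.lTensor_comp_rTensor,
      LinearMap.comp_apply, hx, map_zero]
  have h1 : AlgebraTensorModule.rTensor A Q ℓ (TensorProduct.comm A Q M x) = 0 := by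
    show ℓ.rTensor Q (TensorProduct.comm A Q M x) = 0
    have he : ℓ.rTensor Q ∘ₗ (TensorProduct.comm A Q M).toLinearMap =
        (TensorProduct.comm A Q _).toLinearMap ∘ₗ ℓ.lTensor Q := TensorProduct.ext' fun a b => rfl
    have := LinearMap.congr_fun he x
    simp only [LinearMap.comp_apply, LinearEquiv.coe_coe] at this
    rw [this, h0, map_zero]
  obtain ⟨s, hs⟩ := (IsLocalizedModule.eq_zero_iff q.primeCompl (AlgebraTensorModule.rTensor A Q ℓ)).1 h1
  refine ⟨s, s.2, (TensorProduct.comm A Q M).injective ?_⟩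
  rw [map_smul, map_zero]
  exact hs

/-- A module killed by `J` on which elements outside the `p i` are regular embeds after tensoring. -/
theorem rTensor_injective [Finite ι] {J : Ideal A} (hK : KeepsInjective J M)
    (hloc : ∀ i, Module.Flat (Localization.AtPrime (p i)) (LocalizedModule (p i).primeCompl M))
    {Q P : Type u} [AddCommGroup Q] [Module A Q] [AddCommGroup P] [Module A P]
    (φ : Q →ₗ[A] P) (hφ : Function.Injective φ) (hJQ : Module.IsTorsionBySet A Q J)
    (hreg : ∀ s : A, (∀ i, s ∉ p i) → IsSMulRegular Q s) : Function.Injective (φ.rTensor M) := by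
  classical
  refine (injective_iff_map_eq_zero _).2 fun x hx => ?_
  haveI := Fintype.ofFinite ι
  obtain ⟨s, hs, hsp⟩ : ∃ s ∈ LinearMap.ker (LinearMap.toSpanSingleton A _ x), ∀ i, s ∉ p i := by
    have hnot : ¬ (((LinearMap.ker (LinearMap.toSpanSingleton A _ x) : Ideal A) : Set A) ⊆
        ⋃ i ∈ (↑(Finset.univ : Finset ι) : Set ι), (p i : Set A)) := by
      intro h
      rcases isEmpty_or_nonempty ι with hι | ⟨⟨i₀⟩⟩
      · have := h (Submodule.zero_mem _)
        simp at this
      obtain ⟨i, -, hi⟩ := (Ideal.subset_union_prime (s := Finset.univ) (f := p) i₀ i₀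
        (fun i _ _ _ => inferInstance)).1 h
      obtain ⟨s, hs, hs0⟩ := exists_smul_eq_zero (p i) (hloc i) φ hφ x hx
      exact hs (hi (show s ∈ LinearMap.ker _ from hs0))
    simpa [Set.not_subset] using hnot
  have h := hK (s • (LinearMap.id : Q →ₗ[A] Q)) hJQ hJQ (hreg s hsp)
  apply h
  rw [map_zero, LinearMap.rTensor_smul, LinearMap.rTensor_id]
  exact hs

/-- The steps of a chain suitable for the criterion. -/
structure Step (J I I' : Ideal A) : Prop where
  mul_le : J * I ≤ I'
  regular : ∀ s : A, (∀ i, s ∉ p i) → ∀ a ∈ I, s * a ∈ I' → a ∈ I'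

theorem step_range [Finite ι] {J : Ideal A} (hK : KeepsInjective J M)
    (hloc : ∀ i, Module.Flat (Localization.AtPrime (p i)) (LocalizedModule (p i).primeCompl M))
    (a : Ideal A) {I I' : Ideal A} (h : Step p J I I') (y : ↥(a ⊓ I) ⊗[A] M)
    (hy : ((a ⊓ I : Ideal A).subtype).rTensor M y = 0) :
    ∃ z : ↥(a ⊓ I') ⊗[A] M, (Submodule.inclusion (inf_le_left : a ⊓ I' ≤ a)).rTensor M z =
      (Submodule.inclusion (inf_le_left : a ⊓ I ≤ a)).rTensor M y := by
  let N : Submodule A ↥(a ⊓ I) := Submodule.comap (a ⊓ I).subtype I'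
  let φ : (↥(a ⊓ I) ⧸ N) →ₗ[A] A ⧸ I' := Submodule.mapQ N I' (a ⊓ I).subtype le_rfl
  have hφ : Function.Injective φ := by
    rw [← LinearMap.ker_eq_bot]
    simp [φ, N, Submodule.ker_mapQ]
  have hJQ : Module.IsTorsionBySet A (↥(a ⊓ I) ⧸ N) J := by
    rintro q ⟨r, hr⟩
    obtain ⟨q, rfl⟩ := N.mkQ_surjective q
    rw [← map_smul, Submodule.mkQ_apply, Submodule.Quotient.mk_eq_zero]
    exact h.mul_le (Ideal.mul_mem_mul hr q.2.2)
  have hreg : ∀ s : A, (∀ i, s ∉ p i) → IsSMulRegular (↥(a ⊓ I) ⧸ N) s := fun s hs =>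
    isSMulRegular_iff_right_eq_zero_of_smul.2 fun q hq => by
      obtain ⟨q, rfl⟩ := N.mkQ_surjective q
      rw [← map_smul, Submodule.mkQ_apply, Submodule.Quotient.mk_eq_zero] at hq
      rw [Submodule.mkQ_apply, Submodule.Quotient.mk_eq_zero]
      exact h.regular s hs _ q.2.2 hq
  have h1 : N.mkQ.rTensor M y = 0 := by
    apply rTensor_injective p hK hloc φ hφ hJQ hreg
    rw [map_zero, ← LinearMap.comp_apply, ← LinearMap.rTensor_comp, Submodule.mapQ_mkQ,
      LinearMap.rTensor_comp, LinearMap.comp_apply, hy, map_zero]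
  obtain ⟨w, rfl⟩ := (rTensor_exact M (LinearMap.exact_subtype_mkQ _) N.mkQ_surjective y).mp h1
  let e : N →ₗ[A] ↥(a ⊓ I') := LinearMap.codRestrict _ ((a ⊓ I).subtype ∘ₗ N.subtype) fun z => ⟨z.1.2.1, z.2⟩
  refine ⟨e.rTensor M w, ?_⟩
  rw [← LinearMap.comp_apply, ← LinearMap.comp_apply, ← LinearMap.rTensor_comp, ← LinearMap.rTensor_comp]
  rfl

theorem flat_of_chains [IsNoetherianRing A] [Finite ι] {J : Ideal A} (hK : KeepsInjective J M)
    (hloc : ∀ i, Module.Flat (Localization.AtPrime (p i)) (LocalizedModule (p i).primeCompl M))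
    (hsep : ∀ a : Ideal A, IsHausdorff J (↥a ⊗[A] M))
    (hchain : ∀ n : ℕ, ∃ (m : ℕ) (f : ℕ → Ideal A), f 0 = ⊤ ∧ f m ≤ J ^ n ∧ ∀ j < m, Step p J (f j) (f (j + 1))) :
    Module.Flat A M := by
  rw [Module.Flat.iff_rTensor_injective']
  intro a
  refine (injective_iff_map_eq_zero _).2 fun x hx => ?_
  refine (hsep a).haus x fun n => ?_
  rw [SModEq.zero]
  obtain ⟨k, hk⟩ := Ideal.exists_pow_inf_eq_pow_smul J (a : Submodule A A)
  obtain ⟨m, f, hf0, hfm, hf⟩ := hchain (n + k)
  have key : ∀ j ≤ m, ∃ y : ↥(a ⊓ f j) ⊗[A] M, (Submodule.inclusion (inf_le_left : a ⊓ f j ≤ a)).rTensor M y = x := by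
    intro j
    induction j with
    | zero =>
      intro _
      refine ⟨(Submodule.inclusion (show a ≤ a ⊓ f 0 by rw [hf0, inf_top_eq])).rTensor M x, ?_⟩
      rw [← LinearMap.comp_apply, ← LinearMap.rTensor_comp]
      exact LinearMap.rTensor_id_apply M a x
    | succ j ih =>
      intro hj
      obtain ⟨y, hy⟩ := ih (by omega)
      obtain ⟨z, hz⟩ := step_range p hK hloc a (hf j (by omega)) y (by
        have hy' := hx
        rw [← hy, ← LinearMap.comp_apply, ← LinearMap.rTensor_comp] at hy'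
        exact hy')
      exact ⟨z, hz.trans hy⟩
  obtain ⟨y, rfl⟩ := key m le_rfl
  clear hx key
  induction y using TensorProduct.induction_on with
  | zero => simp
  | add u v hu hv => rw [map_add]; exact add_mem hu hv
  | tmul b v =>
    have hb : (b : A) ∈ (J ^ n • a : Submodule A A) := by
      have h1 : (b : A) ∈ (J ^ (n + k) • ⊤ : Submodule A A) ⊓ a := ⟨by
        simpa using hfm b.2.2, b.2.1⟩
      rw [hk (n + k) (by omega), Nat.add_sub_cancel] at h1
      exact Submodule.smul_mono le_rfl inf_le_right h1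
    rw [LinearMap.rTensor_tmul]
    have hb' : Submodule.inclusion (inf_le_left : a ⊓ f m ≤ a) b ∈ (J ^ n • ⊤ : Submodule A ↥a) :=
      (Submodule.mem_smul_top_iff _ _ _).2 hb
    have := Submodule.mem_map_of_mem (f := ((TensorProduct.mk A ↥a M).flip v)) hb'
    rw [Submodule.map_smul''] at this
    exact Submodule.smul_mono le_rfl le_top this

theorem flat_localized [Module.Flat A M] (q : Ideal A) [q.IsPrime] :
    Module.Flat (Localization.AtPrime q) (LocalizedModule q.primeCompl M) :=
  Module.Flat.of_isLocalizedModule (Rp := Localization.AtPrime q) q.primeCompl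
    (LocalizedModule.mkLinearMap q.primeCompl M)

end Groth.Agent.H1FlatA
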